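import Mathlib

/-!
# Milnor squares of rings (fibre products `R = B ×_A A'` with `A' → A` surjective)
and their localizations.
-/

universe u

namespace H9Ferrand

/-- A Milnor square: `R = B ×_A A'` with `p : A' → A` surjective. -/
structure MSq (R B A' A : Type u) [CommRing R] [CommRing B] [CommRing A'] [CommRing A] where
  f : R →+* B
  g : R →+* A'
  q : B →+* A
  p : A' →+* A
  comm : q.comp f = p.comp g
  surj : Function.Surjective p
  pb : ∀ b a', q b = p a' → ∃! x, f x = b ∧ g x = a'

namespace MSq

variable {R B A' A : Type u} [CommRing R] [CommRing B] [CommRing A'] [CommRing A]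
variable (M : MSq R B A' A)

lemma comm_apply (x : R) : M.q (M.f x) = M.p (M.g x) :=
  congrArg (fun φ : R →+* A => φ x) M.comm

lemma ext_elem {x y : R} (h1 : M.f x = M.f y) (h2 : M.g x = M.g y) : x = y := by
  obtain ⟨z, -, hz⟩ := M.pb (M.f y) (M.g y) (M.comm_apply y)
  rw [hz x ⟨h1, h2⟩, hz y ⟨rfl, rfl⟩]

/-- The lift of a compatible pair of ring homs into a Milnor square. -/
noncomputable def lift {C : Type*} [CommRing C] (φB : C →+* B) (φA' : C →+* A')
    (h : M.q.comp φB = M.p.comp φA') : C →+* R where
  toFun c := (M.pb (φB c) (φA' c) (congrArg (fun φ : C →+* A => φ c) h)).choose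
  map_one' := by
    have := (M.pb (φB 1) (φA' 1) (congrArg (fun φ : C →+* A => φ 1) h)).choose_spec.1
    exact M.ext_elem (by rw [this.1, map_one, map_one]) (by rw [this.2, map_one, map_one])
  map_mul' a b := by
    have hab := (M.pb (φB (a * b)) (φA' (a * b)) (congrArg (fun φ : C →+* A => φ (a * b)) h)).choose_spec.1
    have ha := (M.pb (φB a) (φA' a) (congrArg (fun φ : C →+* A => φ a) h)).choose_spec.1
    have hb := (M.pb (φB b) (φA' b) (congrArg (fun φ : C →+* A => φ b) h)).choose_spec.1
    exact M.ext_elem (by rw [hab.1, map_mul, map_mul, ha.1, hb.1])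
      (by rw [hab.2, map_mul, map_mul, ha.2, hb.2])
  map_zero' := by
    have := (M.pb (φB 0) (φA' 0) (congrArg (fun φ : C →+* A => φ 0) h)).choose_spec.1
    exact M.ext_elem (by rw [this.1, map_zero, map_zero]) (by rw [this.2, map_zero, map_zero])
  map_add' a b := by
    have hab := (M.pb (φB (a + b)) (φA' (a + b)) (congrArg (fun φ : C →+* A => φ (a + b)) h)).choose_spec.1
    have ha := (M.pb (φB a) (φA' a) (congrArg (fun φ : C →+* A => φ a) h)).choose_spec.1
    have hb := (M.pb (φB b) (φA' b) (congrArg (fun φ : C →+* A => φ b) h)).choose_spec.1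
    exact M.ext_elem (by rw [hab.1, map_add, map_add, ha.1, hb.1])
      (by rw [hab.2, map_add, map_add, ha.2, hb.2])

lemma f_lift {C : Type*} [CommRing C] (φB : C →+* B) (φA' : C →+* A')
    (h : M.q.comp φB = M.p.comp φA') : M.f.comp (M.lift φB φA' h) = φB := by
  ext c
  exact (M.pb (φB c) (φA' c) (congrArg (fun φ : C →+* A => φ c) h)).choose_spec.1.1

lemma g_lift {C : Type*} [CommRing C] (φB : C →+* B) (φA' : C →+* A')
    (h : M.q.comp φB = M.p.comp φA') : M.g.comp (M.lift φB φA' h) = φA' := by
  ext c
  exact (M.pb (φB c) (φA' c) (congrArg (fun φ : C →+* A => φ c) h)).choose_spec.1.2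

lemma hom_ext' {C : Type*} [CommRing C] {φ ψ : C →+* R} (h1 : M.f.comp φ = M.f.comp ψ)
    (h2 : M.g.comp φ = M.g.comp ψ) : φ = ψ := by
  ext c
  exact M.ext_elem (congrArg (fun χ : C →+* B => χ c) h1) (congrArg (fun χ : C →+* A' => χ c) h2)

/-- The canonical map between localizations away from `s` and `s' = φ s`. -/
noncomputable def locMap {S S' : Type u} [CommRing S] [CommRing S'] (φ : S →+* S') (s : S) (s' : S')
    (hs : φ s = s') : Localization.Away s →+* Localization.Away s' :=
  IsLocalization.Away.lift (S := Localization.Away s) s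
    (g := (algebraMap S' (Localization.Away s')).comp φ)
    (by rw [RingHom.comp_apply, hs]; exact IsLocalization.Away.algebraMap_isUnit s')

lemma locMap_comp {S S' : Type u} [CommRing S] [CommRing S'] (φ : S →+* S') (s : S) (s' : S')
    (hs : φ s = s') : (locMap φ s s' hs).comp (algebraMap S (Localization.Away s)) =
      (algebraMap S' (Localization.Away s')).comp φ :=
  IsLocalization.Away.lift_comp _ _

lemma locMap_algebraMap {S S' : Type u} [CommRing S] [CommRing S'] (φ : S →+* S') (s : S) (s' : S')
    (hs : φ s = s') (a : S) : locMap φ s s' hs (algebraMap S (Localization.Away s) a) =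
      algebraMap S' (Localization.Away s') (φ a) :=
  IsLocalization.Away.lift_eq _ _ _

variable (r : R)

/-- the localized maps -/
noncomputable def fr : Localization.Away r →+* Localization.Away (M.f r) := locMap M.f r _ rfl
noncomputable def gr : Localization.Away r →+* Localization.Away (M.g r) := locMap M.g r _ rfl
noncomputable def qr : Localization.Away (M.f r) →+* Localization.Away (M.q (M.f r)) :=
  locMap M.q _ _ rfl
noncomputable def pr : Localization.Away (M.g r) →+* Localization.Away (M.q (M.f r)) :=
  locMap M.p _ _ (M.comm_apply r).symm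

lemma loc_comm : (M.qr r).comp (M.fr r) = (M.pr r).comp (M.gr r) := by
  apply IsLocalization.ringHom_ext (Submonoid.powers r)
  ext x
  simp only [RingHom.comp_apply, fr, gr, qr, pr, locMap_algebraMap, M.comm_apply]


section frac

variable {S : Type u} [CommRing S] (s : S)

/-- the fraction `a / s ^ n` -/
noncomputable def frac (a : S) (n : ℕ) : Localization.Away s :=
  IsLocalization.mk' (Localization.Away s) a (⟨s ^ n, n, rfl⟩ : Submonoid.powers s)

lemma frac_spec (a : S) (n : ℕ) :
    frac s a n * algebraMap S (Localization.Away s) s ^ n = algebraMap S (Localization.Away s) a := by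
  rw [frac, ← map_pow]
  exact IsLocalization.mk'_spec (Localization.Away s) a (⟨s ^ n, n, rfl⟩ : Submonoid.powers s)

lemma eq_of_mul_pow_eq {z w : Localization.Away s} (n : ℕ)
    (h : z * algebraMap S (Localization.Away s) s ^ n = w * algebraMap S (Localization.Away s) s ^ n) :
    z = w :=
  (IsLocalization.Away.algebraMap_pow_isUnit s n).mul_left_injective h

end frac

lemma loc_surj : Function.Surjective (M.pr r) := by
  intro z
  obtain ⟨n, a, hz⟩ := IsLocalization.Away.surj (M.q (M.f r)) z
  obtain ⟨a', rfl⟩ := M.surj a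
  refine ⟨frac (M.g r) a' n, ?_⟩
  apply eq_of_mul_pow_eq (M.q (M.f r)) n
  rw [hz]
  have h1 : M.pr r (algebraMap A' (Localization.Away (M.g r)) (M.g r)) =
      algebraMap A (Localization.Away (M.q (M.f r))) (M.q (M.f r)) := by
    rw [pr, locMap_algebraMap, M.comm_apply]
  rw [← h1, ← map_pow, ← map_mul, frac_spec, pr, locMap_algebraMap]

lemma loc_ext_elem {x y : Localization.Away r} (h1 : M.fr r x = M.fr r y)
    (h2 : M.gr r x = M.gr r y) : x = y := by
  obtain ⟨n, a, hx⟩ := IsLocalization.Away.surj r x
  obtain ⟨m, b, hy⟩ := IsLocalization.Away.surj r y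
  -- common denominator
  have hx' : x * algebraMap R (Localization.Away r) r ^ (n + m) =
      algebraMap R (Localization.Away r) (a * r ^ m) := by
    rw [pow_add, ← mul_assoc, hx, map_mul, map_pow]
  have hy' : y * algebraMap R (Localization.Away r) r ^ (n + m) =
      algebraMap R (Localization.Away r) (b * r ^ n) := by
    rw [pow_add, mul_comm (_ ^ n), ← mul_assoc, hy, map_mul, map_pow]
  have hf : algebraMap B (Localization.Away (M.f r)) (M.f (a * r ^ m)) =
      algebraMap B (Localization.Away (M.f r)) (M.f (b * r ^ n)) := by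
    rw [← locMap_algebraMap M.f r _ rfl, ← locMap_algebraMap M.f r _ rfl, ← hx', ← hy', map_mul,
      map_mul]
    exact congrArg (· * _) h1
  have hg : algebraMap A' (Localization.Away (M.g r)) (M.g (a * r ^ m)) =
      algebraMap A' (Localization.Away (M.g r)) (M.g (b * r ^ n)) := by
    rw [← locMap_algebraMap M.g r _ rfl, ← locMap_algebraMap M.g r _ rfl, ← hx', ← hy', map_mul,
      map_mul]
    exact congrArg (· * _) h2
  obtain ⟨k₁, hk₁⟩ := IsLocalization.Away.exists_of_eq (M.f r) hf
  obtain ⟨k₂, hk₂⟩ := IsLocalization.Away.exists_of_eq (M.g r) hg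
  have key : r ^ (k₁ + k₂) * (a * r ^ m) = r ^ (k₁ + k₂) * (b * r ^ n) := by
    apply M.ext_elem
    · simp only [map_mul, map_pow] at hk₁ ⊢
      linear_combination (M.f r) ^ k₂ * hk₁
    · simp only [map_mul, map_pow] at hk₂ ⊢
      linear_combination (M.g r) ^ k₁ * hk₂
  apply eq_of_mul_pow_eq r (n + m)
  rw [hx', hy']
  apply eq_of_mul_pow_eq r (k₁ + k₂)
  rw [← map_pow, ← map_mul, ← map_mul, mul_comm, key, mul_comm]

lemma loc_exists (β : Localization.Away (M.f r)) (α : Localization.Away (M.g r))
    (h : M.qr r β = M.pr r α) : ∃ x, M.fr r x = β ∧ M.gr r x = α := by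
  obtain ⟨n, b, hβ⟩ := IsLocalization.Away.surj (M.f r) β
  obtain ⟨m, a', hα⟩ := IsLocalization.Away.surj (M.g r) α
  -- common denominators
  have hβ' : β * algebraMap B (Localization.Away (M.f r)) (M.f r) ^ (n + m) =
      algebraMap B (Localization.Away (M.f r)) (b * M.f r ^ m) := by
    rw [pow_add, ← mul_assoc, hβ, map_mul, map_pow]
  have hα' : α * algebraMap A' (Localization.Away (M.g r)) (M.g r) ^ (n + m) =
      algebraMap A' (Localization.Away (M.g r)) (a' * M.g r ^ n) := by
    rw [pow_add, mul_comm (_ ^ n), ← mul_assoc, hα, map_mul, map_pow]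
  set t := M.q (M.f r) with ht
  have hq1 : M.qr r (algebraMap B (Localization.Away (M.f r)) (M.f r)) =
      algebraMap A (Localization.Away t) t := by rw [qr, locMap_algebraMap]
  have hp1 : M.pr r (algebraMap A' (Localization.Away (M.g r)) (M.g r)) =
      algebraMap A (Localization.Away t) t := by rw [pr, locMap_algebraMap, ← M.comm_apply]
  have e : algebraMap A (Localization.Away t) (M.q (b * M.f r ^ m)) =
      algebraMap A (Localization.Away t) (M.p (a' * M.g r ^ n)) := by
    have e1 := congrArg (M.qr r) hβ'
    have e2 := congrArg (M.pr r) hα'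
    rw [map_mul, map_pow, hq1, qr, locMap_algebraMap] at e1
    rw [map_mul, map_pow, hp1, pr, locMap_algebraMap] at e2
    rw [← e1, ← e2]
    exact congrArg (· * _) h
  obtain ⟨k, hk⟩ := IsLocalization.Away.exists_of_eq t e
  have hk' : M.q (M.f r ^ k * (b * M.f r ^ m)) = M.p (M.g r ^ k * (a' * M.g r ^ n)) := by
    rw [map_mul, map_mul M.p, map_pow, map_pow, ← M.comm_apply, hk]
  obtain ⟨x₀, ⟨hx1, hx2⟩, -⟩ := M.pb _ _ hk'
  refine ⟨frac r x₀ (k + (n + m)), ?_, ?_⟩
  · apply eq_of_mul_pow_eq (M.f r) (k + (n + m))
    have h0 : M.fr r (algebraMap R (Localization.Away r) r) =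
        algebraMap B (Localization.Away (M.f r)) (M.f r) := by rw [fr, locMap_algebraMap]
    calc M.fr r (frac r x₀ (k + (n + m))) * algebraMap B (Localization.Away (M.f r)) (M.f r) ^ (k + (n + m))
        = M.fr r (frac r x₀ (k + (n + m)) * algebraMap R (Localization.Away r) r ^ (k + (n + m))) := by
          rw [map_mul, map_pow, h0]
      _ = algebraMap B (Localization.Away (M.f r)) (M.f x₀) := by
          rw [frac_spec, fr, locMap_algebraMap]
      _ = algebraMap B (Localization.Away (M.f r)) (M.f r) ^ k *
            algebraMap B (Localization.Away (M.f r)) (b * M.f r ^ m) := by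
          rw [hx1, map_mul, map_pow]
      _ = β * algebraMap B (Localization.Away (M.f r)) (M.f r) ^ (k + (n + m)) := by
          rw [← hβ', pow_add _ k]; ring
  · apply eq_of_mul_pow_eq (M.g r) (k + (n + m))
    have h0 : M.gr r (algebraMap R (Localization.Away r) r) =
        algebraMap A' (Localization.Away (M.g r)) (M.g r) := by rw [gr, locMap_algebraMap]
    calc M.gr r (frac r x₀ (k + (n + m))) * algebraMap A' (Localization.Away (M.g r)) (M.g r) ^ (k + (n + m))
        = M.gr r (frac r x₀ (k + (n + m)) * algebraMap R (Localization.Away r) r ^ (k + (n + m))) := by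
          rw [map_mul, map_pow, h0]
      _ = algebraMap A' (Localization.Away (M.g r)) (M.g x₀) := by
          rw [frac_spec, gr, locMap_algebraMap]
      _ = algebraMap A' (Localization.Away (M.g r)) (M.g r) ^ k *
            algebraMap A' (Localization.Away (M.g r)) (a' * M.g r ^ n) := by
          rw [hx2, map_mul, map_pow]
      _ = α * algebraMap A' (Localization.Away (M.g r)) (M.g r) ^ (k + (n + m)) := by
          rw [← hα', pow_add _ k]; ring

/-- The localization of a Milnor square. -/
noncomputable def loc : MSq (Localization.Away r) (Localization.Away (M.f r))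
    (Localization.Away (M.g r)) (Localization.Away (M.q (M.f r))) where
  f := M.fr r
  g := M.gr r
  q := M.qr r
  p := M.pr r
  comm := M.loc_comm r
  surj := M.loc_surj r
  pb β α h := by
    obtain ⟨x, hx⟩ := M.loc_exists r β α h
    exact ⟨x, hx, fun y hy => M.loc_ext_elem r (hy.1.trans hx.1.symm) (hy.2.trans hx.2.symm)⟩

end MSq

end H9Ferrand
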