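import Mathlib
import Groth.Agent.S6917
import Groth.Agent.Lib.Helper9.Ferrand.Alg

universe u

open CategoryTheory CategoryTheory.Limits

namespace H9Ferrand

namespace MSq

variable {R B A' A : Type u} [CommRing R] [CommRing B] [CommRing A'] [CommRing A]
variable (M : MSq R B A' A)

theorem top_pushout :
    IsPushout
      (TopCat.ofHom (ContinuousMap.mk (PrimeSpectrum.comap M.q) (PrimeSpectrum.continuous_comap _)))
      (TopCat.ofHom (ContinuousMap.mk (PrimeSpectrum.comap M.p) (PrimeSpectrum.continuous_comap _)))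
      (TopCat.ofHom (ContinuousMap.mk (PrimeSpectrum.comap M.f) (PrimeSpectrum.continuous_comap _)))
      (TopCat.ofHom (ContinuousMap.mk (PrimeSpectrum.comap M.g) (PrimeSpectrum.continuous_comap _))) := by
  letI : Algebra R B := M.f.toAlgebra
  letI : Algebra R A' := M.g.toAlgebra
  letI : Algebra B A := M.q.toAlgebra
  letI : Algebra A' A := M.p.toAlgebra
  letI : Algebra R A := (M.q.comp M.f).toAlgebra
  haveI : IsScalarTower R B A := IsScalarTower.of_algebraMap_eq (fun _ => rfl)
  haveI : IsScalarTower R A' A := IsScalarTower.of_algebraMap_eq (fun x => M.comm_apply x)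
  have hsq : EtMil.IsFibreSquare R B A' A := ⟨M.surj, M.pb⟩
  exact Groth.Agent.S6917.result R B A' A hsq

/-- joint surjectivity of `Spec B ⊔ Spec A' → Spec R` -/
theorem jointly_surjective (x : PrimeSpectrum R) :
    (∃ y, PrimeSpectrum.comap M.f y = x) ∨ (∃ y, PrimeSpectrum.comap M.g y = x) := by
  have hPO := M.top_pushout
  obtain ⟨j, y, hy⟩ := Concrete.isColimit_exists_rep _ hPO.isColimit x
  rcases j with _ | _ | _
  · left
    have h0 := hPO.cocone.condition_zero
    rw [h0] at hy
    exact ⟨(TopCat.ofHom (ContinuousMap.mk (PrimeSpectrum.comap M.q)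
      (PrimeSpectrum.continuous_comap _))) y, hy⟩
  · left
    exact ⟨y, hy⟩
  · right
    exact ⟨y, hy⟩

/-- continuous maps out of `Spec R` glue -/
theorem exists_desc {T : Type u} [TopologicalSpace T] (F : PrimeSpectrum B → T) (G : PrimeSpectrum A' → T)
    (hF : Continuous F) (hG : Continuous G)
    (hFG : ∀ z, F (PrimeSpectrum.comap M.q z) = G (PrimeSpectrum.comap M.p z)) :
    ∃ H : PrimeSpectrum R → T, Continuous H ∧ (∀ y, H (PrimeSpectrum.comap M.f y) = F y) ∧
      (∀ y, H (PrimeSpectrum.comap M.g y) = G y) := by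
  have hPO := M.top_pushout
  let F' : TopCat.of (PrimeSpectrum B) ⟶ TopCat.of T := TopCat.ofHom ⟨F, hF⟩
  let G' : TopCat.of (PrimeSpectrum A') ⟶ TopCat.of T := TopCat.ofHom ⟨G, hG⟩
  have w : (TopCat.ofHom (ContinuousMap.mk (PrimeSpectrum.comap M.q) (PrimeSpectrum.continuous_comap _))) ≫ F' =
      (TopCat.ofHom (ContinuousMap.mk (PrimeSpectrum.comap M.p) (PrimeSpectrum.continuous_comap _))) ≫ G' := by
    ext z
    exact hFG z
  refine ⟨hPO.desc F' G' w, (hPO.desc F' G' w).hom.continuous, fun y => ?_, fun y => ?_⟩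
  · exact congr($(hPO.inl_desc F' G' w) y)
  · exact congr($(hPO.inr_desc F' G' w) y)

end MSq

end H9Ferrand
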