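import Mathlib
import Groth.Agent.Lib.Helper9.Ferrand.Alg
import Groth.Agent.Lib.Helper9.Ferrand.Top

universe u

open CategoryTheory CategoryTheory.Limits AlgebraicGeometry

namespace H9Ferrand

namespace MSq

variable {R B A' A : Type u} [CommRing R] [CommRing B] [CommRing A'] [CommRing A]
variable (M : MSq R B A' A)

noncomputable def jB : Spec (CommRingCat.of B) ⟶ Spec (CommRingCat.of R) :=
  Spec.map (CommRingCat.ofHom M.f)
noncomputable def jA' : Spec (CommRingCat.of A') ⟶ Spec (CommRingCat.of R) :=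
  Spec.map (CommRingCat.ofHom M.g)
noncomputable def kB : Spec (CommRingCat.of A) ⟶ Spec (CommRingCat.of B) :=
  Spec.map (CommRingCat.ofHom M.q)
noncomputable def kA' : Spec (CommRingCat.of A) ⟶ Spec (CommRingCat.of A') :=
  Spec.map (CommRingCat.ofHom M.p)

lemma sq : M.kB ≫ M.jB = M.kA' ≫ M.jA' := by
  simp only [kB, jB, kA', jA', ← Spec.map_comp, ← CommRingCat.ofHom_comp, M.comm]

/-- uniqueness for affine targets -/
lemma affine_hom_ext {C : CommRingCat.{u}} (g1 g2 : Spec (CommRingCat.of R) ⟶ Spec C)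
    (hB : M.jB ≫ g1 = M.jB ≫ g2) (hA' : M.jA' ≫ g1 = M.jA' ≫ g2) : g1 = g2 := by
  rw [← Spec.map_preimage g1, ← Spec.map_preimage g2] at hB hA' ⊢
  simp only [jB, jA', ← Spec.map_comp] at hB hA'
  have h1 := Spec.map_injective hB
  have h2 := Spec.map_injective hA'
  congr 1
  ext c
  apply M.ext_elem
  · exact congr(($h1).hom c)
  · exact congr(($h2).hom c)

/-- existence for affine targets -/
lemma affine_exists {C : CommRingCat.{u}} (β : Spec (CommRingCat.of B) ⟶ Spec C)
    (α : Spec (CommRingCat.of A') ⟶ Spec C) (h : M.kB ≫ β = M.kA' ≫ α) :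
    ∃ γ : Spec (CommRingCat.of R) ⟶ Spec C, M.jB ≫ γ = β ∧ M.jA' ≫ γ = α := by
  rw [← Spec.map_preimage β, ← Spec.map_preimage α] at h
  simp only [kB, kA', ← Spec.map_comp] at h
  have h' := Spec.map_injective h
  have h'' : M.q.comp (Spec.preimage β).hom = M.p.comp (Spec.preimage α).hom := by
    ext c
    exact congr(($h').hom c)
  refine ⟨Spec.map (CommRingCat.ofHom (M.lift _ _ h'')), ?_, ?_⟩
  · rw [jB, ← Spec.map_comp, ← CommRingCat.ofHom_comp, M.f_lift, CommRingCat.ofHom_hom,
      Spec.map_preimage]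
  · rw [jA', ← Spec.map_comp, ← CommRingCat.ofHom_comp, M.g_lift, CommRingCat.ofHom_hom,
      Spec.map_preimage]


/-- the open immersion `Spec S[1/s] ⟶ Spec S` -/
noncomputable def locι {S : Type u} [CommRing S] (s : S) :
    Spec (CommRingCat.of (Localization.Away s)) ⟶ Spec (CommRingCat.of S) :=
  Spec.map (CommRingCat.ofHom (algebraMap S (Localization.Away s)))

instance {S : Type u} [CommRing S] (s : S) : IsOpenImmersion (locι s) := by
  unfold locι; infer_instance

lemma locι_opensRange {S : Type u} [CommRing S] (s : S) :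
    (locι s).opensRange = PrimeSpectrum.basicOpen s :=
  Scheme.Hom.opensRange_localizationAway (R := CommRingCat.of S) s

lemma locι_mem {S : Type u} [CommRing S] (s : S) (z : Spec (CommRingCat.of (Localization.Away s))) :
    (locι s) z ∈ (PrimeSpectrum.basicOpen s : Set (PrimeSpectrum S)) := by
  have : (locι s) z ∈ (locι s).opensRange := ⟨z, rfl⟩
  rw [locι_opensRange] at this
  exact this

lemma locι_comm {S S' : Type u} [CommRing S] [CommRing S'] (φ : S →+* S') (s : S) (s' : S')
    (hs : φ s = s') :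
    Spec.map (CommRingCat.ofHom (locMap φ s s' hs)) ≫ locι s =
      locι s' ≫ Spec.map (CommRingCat.ofHom φ) := by
  simp only [locι, ← Spec.map_comp, ← CommRingCat.ofHom_comp, locMap_comp]

lemma loc_jB (r : R) : (M.loc r).jB ≫ locι r = locι (M.f r) ≫ M.jB :=
  locι_comm M.f r _ rfl
lemma loc_jA' (r : R) : (M.loc r).jA' ≫ locι r = locι (M.g r) ≫ M.jA' :=
  locι_comm M.g r _ rfl
lemma loc_kB (r : R) : (M.loc r).kB ≫ locι (M.f r) = locι (M.q (M.f r)) ≫ M.kB :=
  locι_comm M.q _ _ rfl
lemma loc_kA' (r : R) : (M.loc r).kA' ≫ locι (M.g r) = locι (M.q (M.f r)) ≫ M.kA' :=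
  locι_comm M.p _ _ (M.comm_apply r).symm

lemma exists_factor_of_range_subset {X T : Scheme.{u}} (m : X ⟶ T) (W : T.Opens)
    (hW : IsAffineOpen W) (h : ∀ z, m z ∈ W) :
    ∃ m' : X ⟶ Spec Γ(T, W), m' ≫ hW.fromSpec = m :=
  ⟨IsOpenImmersion.lift hW.fromSpec m (by
      rw [hW.range_fromSpec]; rintro _ ⟨z, rfl⟩; exact h z),
    IsOpenImmersion.lift_fac _ _ _⟩

lemma jB_apply (y : Spec (CommRingCat.of B)) : M.jB y = PrimeSpectrum.comap M.f y := rfl
lemma jA'_apply (y : Spec (CommRingCat.of A')) : M.jA' y = PrimeSpectrum.comap M.g y := rfl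

/-- pointwise joint surjectivity -/
lemma exists_preimage (x : Spec (CommRingCat.of R)) :
    (∃ y, M.jB y = x) ∨ (∃ y, M.jA' y = x) := M.jointly_surjective x

/-- Uniqueness part of the universal property. -/
theorem hom_ext {T : Scheme.{u}} (g1 g2 : Spec (CommRingCat.of R) ⟶ T)
    (hB : M.jB ≫ g1 = M.jB ≫ g2) (hA' : M.jA' ≫ g1 = M.jA' ≫ g2) : g1 = g2 := by
  have hpt : ∀ x, g1 x = g2 x := by
    intro x
    rcases M.exists_preimage x with ⟨y, rfl⟩ | ⟨y, rfl⟩
    · rw [← Scheme.Hom.comp_apply, ← Scheme.Hom.comp_apply, hB]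
    · rw [← Scheme.Hom.comp_apply, ← Scheme.Hom.comp_apply, hA']
  have hloc : ∀ x : Spec (CommRingCat.of R), ∃ (r : R) (W : T.Opens), IsAffineOpen W ∧
      x ∈ (PrimeSpectrum.basicOpen r : Set (PrimeSpectrum R)) ∧
      ∀ z ∈ (PrimeSpectrum.basicOpen r : Set (PrimeSpectrum R)), g1 z ∈ W ∧ g2 z ∈ W := by
    intro x
    obtain ⟨W, hW, hxW, -⟩ := TopologicalSpace.Opens.isBasis_iff_nbhd.mp T.isBasis_affineOpens
      (show g1 x ∈ (⊤ : T.Opens) from trivial)
    have hx : x ∈ g1 ⁻¹ᵁ W ⊓ g2 ⁻¹ᵁ W := ⟨hxW, by show g2 x ∈ W; rw [← hpt]; exact hxW⟩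
    obtain ⟨_, ⟨r, rfl⟩, hxr, hr⟩ := TopologicalSpace.Opens.isBasis_iff_nbhd.mp
      (PrimeSpectrum.isBasis_basic_opens (R := R)) hx
    exact ⟨r, W, hW, hxr, fun z hz => hr hz⟩
  choose r W hW hxr hrW using hloc
  have hspan : Ideal.span (Set.range r) = ⊤ := by
    rw [← PrimeSpectrum.iSup_basicOpen_eq_top_iff]
    apply top_le_iff.mp
    intro x _
    exact TopologicalSpace.Opens.mem_iSup.mpr ⟨x, hxr x⟩
  apply (Scheme.affineOpenCoverOfSpanRangeEqTop (R := CommRingCat.of R) r hspan).openCover.hom_ext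
  intro x
  show locι (r x) ≫ g1 = locι (r x) ≫ g2
  obtain ⟨h1, hh1⟩ := exists_factor_of_range_subset (locι (r x) ≫ g1) (W x) (hW x)
    (fun z => (hrW x _ (locι_mem _ z)).1)
  obtain ⟨h2, hh2⟩ := exists_factor_of_range_subset (locι (r x) ≫ g2) (W x) (hW x)
    (fun z => (hrW x _ (locι_mem _ z)).2)
  have : h1 = h2 := by
    apply (M.loc (r x)).affine_hom_ext
    · rw [← cancel_mono (hW x).fromSpec, Category.assoc, Category.assoc, hh1, hh2,
        ← Category.assoc, ← Category.assoc, M.loc_jB, Category.assoc, Category.assoc, hB]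
    · rw [← cancel_mono (hW x).fromSpec, Category.assoc, Category.assoc, hh1, hh2,
        ← Category.assoc, ← Category.assoc, M.loc_jA', Category.assoc, Category.assoc, hA']
  rw [← hh1, ← hh2, this]

/-- existence when both maps land in an affine open -/
lemma exists_of_affine_range {T : Scheme.{u}} (β : Spec (CommRingCat.of B) ⟶ T)
    (α : Spec (CommRingCat.of A') ⟶ T) (h : M.kB ≫ β = M.kA' ≫ α) (W : T.Opens)
    (hW : IsAffineOpen W) (hβ : ∀ z, β z ∈ W) (hα : ∀ z, α z ∈ W) :
    ∃ γ : Spec (CommRingCat.of R) ⟶ T, M.jB ≫ γ = β ∧ M.jA' ≫ γ = α := by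
  obtain ⟨β', hβ'⟩ := exists_factor_of_range_subset β W hW hβ
  obtain ⟨α', hα'⟩ := exists_factor_of_range_subset α W hW hα
  have h' : M.kB ≫ β' = M.kA' ≫ α' := by
    rw [← cancel_mono hW.fromSpec, Category.assoc, Category.assoc, hβ', hα', h]
  obtain ⟨γ', h1, h2⟩ := M.affine_exists β' α' h'
  exact ⟨γ' ≫ hW.fromSpec, by rw [← Category.assoc, h1, hβ'], by rw [← Category.assoc, h2, hα']⟩

end MSq

section glue

variable {R : Type u} [CommRing R] (P : R → Prop)
  (hP : ∀ (U : TopologicalSpace.Opens (PrimeSpectrum R)) (x : PrimeSpectrum R), x ∈ U →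
    ∃ r, P r ∧ x ∈ PrimeSpectrum.basicOpen r ∧ PrimeSpectrum.basicOpen r ≤ U)

open MSq

/-- the cover of `Spec R` by the `Spec R[1/r]`, `P r` -/
noncomputable def basisCover : (Spec (CommRingCat.of R)).OpenCover :=
  Scheme.Cover.mkOfCovers {r : R // P r} (fun i => Spec (CommRingCat.of (Localization.Away i.1)))
    (fun i => locι i.1)
    (fun x => by
      obtain ⟨r, hr, hxr, -⟩ := hP ⊤ x trivial
      have : x ∈ (locι r).opensRange := by rw [locι_opensRange]; exact hxr
      obtain ⟨y, hy⟩ := this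
      exact ⟨⟨r, hr⟩, y, hy⟩)

instance : Preorder (basisCover P hP).I₀ :=
  Preorder.lift (fun i : {r : R // P r} => PrimeSpectrum.basicOpen i.1)

noncomputable instance : (basisCover P hP).LocallyDirected :=
  .ofIsBasisOpensRange
    (by
      intro i j
      show PrimeSpectrum.basicOpen i.1 ≤ PrimeSpectrum.basicOpen j.1 ↔
        (locι i.1).opensRange ≤ (locι j.1).opensRange
      rw [locι_opensRange, locι_opensRange]
      exact Iff.rfl)
    (by
      rw [TopologicalSpace.Opens.isBasis_iff_nbhd]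
      intro U x hx
      obtain ⟨r, hr, hxr, hrU⟩ := hP U x hx
      refine ⟨PrimeSpectrum.basicOpen r, ⟨⟨r, hr⟩, ?_⟩, hxr, hrU⟩
      show (locι r).opensRange = _
      rw [locι_opensRange])

include hP in
theorem glue_basic {T : Scheme.{u}}
    (g : ∀ i : {r : R // P r}, Spec (CommRingCat.of (Localization.Away i.1)) ⟶ T)
    (hg : ∀ (i j : {r : R // P r})
      (t : Spec (CommRingCat.of (Localization.Away i.1)) ⟶ Spec (CommRingCat.of (Localization.Away j.1))),
      t ≫ locι j.1 = locι i.1 → t ≫ g j = g i) :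
    ∃ γ : Spec (CommRingCat.of R) ⟶ T, ∀ i : {r : R // P r}, locι i.1 ≫ γ = g i := by
  refine ⟨(basisCover P hP).glueMorphismsOfLocallyDirected g
    (fun {i j} hij => hg i j _ ((basisCover P hP).trans_map hij)), fun i => ?_⟩
  exact (basisCover P hP).map_glueMorphismsOfLocallyDirected g _ i

end glue

namespace MSq

variable {R B A' A : Type u} [CommRing R] [CommRing B] [CommRing A'] [CommRing A]
variable (M : MSq R B A' A)

lemma locι_range_subset {S : Type u} [CommRing S] {s s' : S}
    (h : PrimeSpectrum.basicOpen s ≤ PrimeSpectrum.basicOpen s') :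
    Set.range (locι s) ⊆ Set.range (locι s') := by
  have h1 : Set.range (locι s) = ((locι s).opensRange : Set _) := rfl
  have h2 : Set.range (locι s') = ((locι s').opensRange : Set _) := rfl
  rw [h1, h2, locι_opensRange, locι_opensRange]
  exact h

lemma basicOpen_le_of_comp {S : Type u} [CommRing S] {s s' : S}
    (t : Spec (CommRingCat.of (Localization.Away s)) ⟶ Spec (CommRingCat.of (Localization.Away s')))
    (ht : t ≫ locι s' = locι s) : PrimeSpectrum.basicOpen s ≤ PrimeSpectrum.basicOpen s' := by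
  intro y hy
  have hy' : y ∈ (locι s).opensRange := by rw [locι_opensRange]; exact hy
  obtain ⟨z, rfl⟩ := hy'
  have : (locι s) z = (locι s') (t z) := by rw [← Scheme.Hom.comp_apply, ht]
  rw [this]
  exact locι_mem s' (t z)

lemma basicOpen_map_le {S S' : Type u} [CommRing S] [CommRing S'] (φ : S →+* S') {s s' : S}
    (h : PrimeSpectrum.basicOpen s ≤ PrimeSpectrum.basicOpen s') :
    PrimeSpectrum.basicOpen (φ s) ≤ PrimeSpectrum.basicOpen (φ s') := by
  intro y hy
  have : PrimeSpectrum.comap φ y ∈ PrimeSpectrum.basicOpen s := hy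
  exact h this

/-- Existence part of the universal property. -/
theorem exists_desc_hom {T : Scheme.{u}} (β : Spec (CommRingCat.of B) ⟶ T)
    (α : Spec (CommRingCat.of A') ⟶ T) (h : M.kB ≫ β = M.kA' ≫ α) :
    ∃ γ : Spec (CommRingCat.of R) ⟶ T, M.jB ≫ γ = β ∧ M.jA' ≫ γ = α := by
  -- the topological map
  obtain ⟨H, hHc, hHB, hHA'⟩ := M.exists_desc (T := T) (fun y => β y) (fun y => α y)
    β.continuous α.continuous (fun z => by
      have := congr($(h) z)
      exact this)
  -- the predicate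
  let P : R → Prop := fun r => ∃ W : T.Opens, IsAffineOpen W ∧
    ∀ z ∈ (PrimeSpectrum.basicOpen r : Set (PrimeSpectrum R)), H z ∈ W
  have hP : ∀ (U : TopologicalSpace.Opens (PrimeSpectrum R)) (x : PrimeSpectrum R), x ∈ U →
      ∃ r, P r ∧ x ∈ PrimeSpectrum.basicOpen r ∧ PrimeSpectrum.basicOpen r ≤ U := by
    intro U x hx
    obtain ⟨W, hW, hxW, -⟩ := TopologicalSpace.Opens.isBasis_iff_nbhd.mp T.isBasis_affineOpens
      (show H x ∈ (⊤ : T.Opens) from trivial)
    let V : TopologicalSpace.Opens (PrimeSpectrum R) := ⟨H ⁻¹' W, W.2.preimage hHc⟩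
    have hx' : x ∈ U ⊓ V := ⟨hx, hxW⟩
    obtain ⟨_, ⟨r, rfl⟩, hxr, hr⟩ := TopologicalSpace.Opens.isBasis_iff_nbhd.mp
      (PrimeSpectrum.isBasis_basic_opens (R := R)) hx'
    exact ⟨r, ⟨W, hW, fun z hz => (hr hz).2⟩, hxr, fun z hz => (hr hz).1⟩
  -- local morphisms
  have hex : ∀ i : {r : R // P r}, ∃ γ : Spec (CommRingCat.of (Localization.Away i.1)) ⟶ T,
      (M.loc i.1).jB ≫ γ = locι (M.f i.1) ≫ β ∧ (M.loc i.1).jA' ≫ γ = locι (M.g i.1) ≫ α := by
    rintro ⟨r, W, hW, hr⟩
    apply (M.loc r).exists_of_affine_range _ _ _ W hW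
    · intro z
      rw [Scheme.Hom.comp_apply]
      have hz := locι_mem (M.f r) z
      have h1 : H (PrimeSpectrum.comap M.f (locι (M.f r) z)) ∈ W := hr _ hz
      have e : H (PrimeSpectrum.comap M.f (locι (M.f r) z)) = β (locι (M.f r) z) := hHB _
      rw [e] at h1
      exact h1
    · intro z
      rw [Scheme.Hom.comp_apply]
      have hz := locι_mem (M.g r) z
      have h1 : H (PrimeSpectrum.comap M.g (locι (M.g r) z)) ∈ W := hr _ hz
      have e : H (PrimeSpectrum.comap M.g (locι (M.g r) z)) = α (locι (M.g r) z) := hHA' _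
      rw [e] at h1
      exact h1
    · rw [← Category.assoc, ← Category.assoc, M.loc_kB, M.loc_kA', Category.assoc, Category.assoc, h]
  choose g hgB hgA' using hex
  obtain ⟨γ, hγ⟩ := glue_basic P hP g (by
    intro i j t ht
    have hle := basicOpen_le_of_comp t ht
    apply (M.loc i.1).hom_ext
    · -- over `B`
      let Λ : Spec (CommRingCat.of (Localization.Away (M.f i.1))) ⟶
          Spec (CommRingCat.of (Localization.Away (M.f j.1))) :=
        IsOpenImmersion.lift (locι (M.f j.1)) (locι (M.f i.1))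
          (locι_range_subset (basicOpen_map_le M.f hle))
      have hΛ : Λ ≫ locι (M.f j.1) = locι (M.f i.1) := IsOpenImmersion.lift_fac _ _ _
      have e : Λ ≫ (M.loc j.1).jB = (M.loc i.1).jB ≫ t := by
        rw [← cancel_mono (locι j.1), Category.assoc, Category.assoc, M.loc_jB, ht, M.loc_jB,
          ← Category.assoc, hΛ]
      rw [← Category.assoc, ← e, Category.assoc, hgB, hgB, ← Category.assoc, hΛ]
    · -- over `A'`
      let Λ : Spec (CommRingCat.of (Localization.Away (M.g i.1))) ⟶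
          Spec (CommRingCat.of (Localization.Away (M.g j.1))) :=
        IsOpenImmersion.lift (locι (M.g j.1)) (locι (M.g i.1))
          (locι_range_subset (basicOpen_map_le M.g hle))
      have hΛ : Λ ≫ locι (M.g j.1) = locι (M.g i.1) := IsOpenImmersion.lift_fac _ _ _
      have e : Λ ≫ (M.loc j.1).jA' = (M.loc i.1).jA' ≫ t := by
        rw [← cancel_mono (locι j.1), Category.assoc, Category.assoc, M.loc_jA', ht, M.loc_jA',
          ← Category.assoc, hΛ]
      rw [← Category.assoc, ← e, Category.assoc, hgA', hgA', ← Category.assoc, hΛ])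
  refine ⟨γ, ?_, ?_⟩
  · -- check on a cover of `Spec B`
    let 𝒱 : (Spec (CommRingCat.of B)).OpenCover :=
      Scheme.Cover.mkOfCovers {r : R // P r}
        (fun i => Spec (CommRingCat.of (Localization.Away (M.f i.1))))
        (fun i => locι (M.f i.1))
        (fun y => by
          obtain ⟨r, hr, hxr, -⟩ := hP ⊤ (PrimeSpectrum.comap M.f y) trivial
          have : y ∈ (locι (M.f r)).opensRange := by rw [locι_opensRange]; exact hxr
          obtain ⟨z, hz⟩ := this
          exact ⟨⟨r, hr⟩, z, hz⟩)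
    apply 𝒱.hom_ext
    intro (i : {r : R // P r})
    show locι (M.f i.1) ≫ M.jB ≫ γ = locι (M.f i.1) ≫ β
    rw [← Category.assoc, ← M.loc_jB, Category.assoc, hγ i, hgB]
  · let 𝒱 : (Spec (CommRingCat.of A')).OpenCover :=
      Scheme.Cover.mkOfCovers {r : R // P r}
        (fun i => Spec (CommRingCat.of (Localization.Away (M.g i.1))))
        (fun i => locι (M.g i.1))
        (fun y => by
          obtain ⟨r, hr, hxr, -⟩ := hP ⊤ (PrimeSpectrum.comap M.g y) trivial
          have : y ∈ (locι (M.g r)).opensRange := by rw [locι_opensRange]; exact hxr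
          obtain ⟨z, hz⟩ := this
          exact ⟨⟨r, hr⟩, z, hz⟩)
    apply 𝒱.hom_ext
    intro (i : {r : R // P r})
    show locι (M.g i.1) ≫ M.jA' ≫ γ = locι (M.g i.1) ≫ α
    rw [← Category.assoc, ← M.loc_jA', Category.assoc, hγ i, hgA']

/-- **Ferrand**: the spectrum of a Milnor square is a pushout of schemes. -/
theorem isPushout : IsPushout M.kB M.kA' M.jB M.jA' := by
  refine ⟨⟨M.sq⟩, ⟨PushoutCocone.IsColimit.mk _ (fun s => (M.exists_desc_hom s.inl s.inr s.condition).choose)
    (fun s => (M.exists_desc_hom s.inl s.inr s.condition).choose_spec.1)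
    (fun s => (M.exists_desc_hom s.inl s.inr s.condition).choose_spec.2)
    (fun s m h1 h2 => M.hom_ext _ _
      (h1.trans (M.exists_desc_hom s.inl s.inr s.condition).choose_spec.1.symm)
      (h2.trans (M.exists_desc_hom s.inl s.inr s.condition).choose_spec.2.symm))⟩⟩

end MSq

end H9Ferrand
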